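import Mathlib

/-!
# S5917 (toral kill): counting modulo 3 and dimensions of independent families (helper643)
-/

set_option autoImplicit false

namespace Cfsg.Agent.H643.L34

open Module

theorem card_fix {α : Type*} [Fintype α] [DecidableEq α] {f : α → α} (h : ∀ a, f (f (f a)) = a) :
    Fintype.card α ≡ Fintype.card {a : α // f a = a} [MOD 3] := by
  have : Fact (Nat.Prime 3) := ⟨Nat.prime_three⟩
  have h1 : (show Function.End α from f) ^ 3 ^ 1 = 1 := by
    funext a
    exact h a
  have h2 := Equiv.Perm.card_fixedPoints_modEq (α := α) (p := 3) (n := 1) h1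
  refine h2.trans ?_
  have : Fintype.card (Function.fixedPoints (show Function.End α from f)) = Fintype.card {a : α // f a = a} :=
    Fintype.card_congr (Equiv.refl _)
  rw [this]

theorem three_dvd {α : Type*} [Fintype α] [DecidableEq α] {f t : α → α} (hf : ∀ a, f (f (f a)) = a)
    (ht : ∀ a, t (t (t a)) = a) (hc : ∀ a, f (t a) = t (f a)) (h0 : ∀ a, f a = a → t a = a → False) :
    3 ∣ Fintype.card α := by
  have h1 := card_fix hf
  let t' : {a : α // f a = a} → {a : α // f a = a} := fun a => ⟨t a.1, by rw [hc, a.2]⟩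
  have h2 := card_fix (f := t') (fun a => Subtype.ext (ht a.1))
  have h3 : Fintype.card {a : {a : α // f a = a} // t' a = a} = 0 := by
    rw [Fintype.card_eq_zero_iff]
    exact ⟨fun a => h0 a.1.1 a.1.2 (congrArg Subtype.val a.2)⟩
  rw [h3] at h2
  exact (Nat.modEq_zero_iff_dvd).1 (h1.trans h2)

theorem three_dvd_sum {α : Type*} [Fintype α] {w : α → ℕ} {f t : α → α} (hf : ∀ a, f (f (f a)) = a)
    (ht : ∀ a, t (t (t a)) = a) (hc : ∀ a, f (t a) = t (f a)) (h0 : ∀ a, f a = a → t a = a → False)
    (hwf : ∀ a, w (f a) = w a) (hwt : ∀ a, w (t a) = w a) : 3 ∣ ∑ a, w a := by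
  classical
  have h1 := Finset.sum_comp (s := (Finset.univ : Finset α)) (fun k : ℕ => k) w
  rw [h1]
  refine Finset.dvd_sum fun k _ => ?_
  rw [smul_eq_mul]
  refine Dvd.dvd.mul_right ?_ _
  have h2 : (Finset.univ.filter fun a => w a = k).card = Fintype.card {a : α // w a = k} := by
    rw [Fintype.card_subtype]
  rw [h2]
  let f' : {a : α // w a = k} → {a : α // w a = k} := fun a => ⟨f a.1, by rw [hwf, a.2]⟩
  let t' : {a : α // w a = k} → {a : α // w a = k} := fun a => ⟨t a.1, by rw [hwt, a.2]⟩
  exact three_dvd (f := f') (t := t') (fun a => Subtype.ext (hf a.1)) (fun a => Subtype.ext (ht a.1))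
    (fun a => Subtype.ext (hc a.1)) (fun a e1 e2 => h0 a.1 (congrArg Subtype.val e1) (congrArg Subtype.val e2))

theorem finrank_biSup {K L ι : Type*} [Field K] [AddCommGroup L] [Module K L] [FiniteDimensional K L]
    {W : ι → Submodule K L} (hi : iSupIndep W) (s : Set ι) [Fintype s] :
    finrank K (⨆ i ∈ s, W i : Submodule K L) = ∑ i : s, finrank K (W i) := by
  classical
  have h1 := DirectSum.isInternal_biSup_submodule_of_iSupIndep (A := W) s (hi.comp Subtype.val_injective)
  have e := LinearEquiv.ofBijective (DirectSum.coeLinearMap fun (i : s) ↦ (W i).comap (⨆ i ∈ s, W i).subtype) h1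
  rw [← e.finrank_eq, Module.finrank_directSum]
  refine Finset.sum_congr rfl fun i _ => ?_
  have hle : W i ≤ ⨆ i ∈ s, W i := le_biSup W i.2
  exact (Submodule.comapSubtypeEquivOfLe hle).finrank_eq

end Cfsg.Agent.H643.L34
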