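import Cfsg.Agent.H204.L34.Rank
import Cfsg.Agent.SporadicA.FieldFour

/-!
# S5917 (toral kill): trace form of hermitian matrices, 280 nondegenerate forms (helper643)
-/

set_option autoImplicit false

namespace Cfsg.Agent.H643.L34

open Matrix Cfsg.Agent.H691.L34 Cfsg.Agent.SporadicA.FieldFour
open Cfsg.Agent.H204.L34 (hact_mul hact_one hact_HF hact_apply ct_mul ct_one rank_equiv)

section
variable {F : Type} [Field F]

theorem it_it (g : G3 F) : it (it g) = g := by
  apply Subtype.ext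
  show ((it g)⁻¹ : G3 F).1.transpose = g.1
  rw [← map_inv]
  show ((g⁻¹ : G3 F)⁻¹.1.transpose).transpose = g.1
  rw [inv_inv, Matrix.transpose_transpose]

theorem tw_tw (b : Bool) (g : G3 F) : tw b (tw b g) = g := by
  cases b
  · rfl
  · exact it_it g

/-- the trace -/
def T (X : M3 F) : F := X 0 0 + X 1 1 + X 2 2

theorem pow_four [Fintype F] (hF : Fintype.card F = 4) (a : F) : a ^ 4 = a := by
  have := FiniteField.pow_card a
  rwa [hF] at this

theorem two_zero [Fintype F] (hF : Fintype.card F = 4) : (2 : F) = 0 := by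
  have h : ((Fintype.card F : ℕ) : F) = 0 := FiniteField.cast_card_eq_zero F
  rw [hF] at h
  have h4 : (2 : F) * 2 = 0 := by
    have : ((4 : ℕ) : F) = 2 * 2 := by norm_num
    rw [← this]; exact h
  exact (mul_self_eq_zero).1 h4

theorem exists_w [Fintype F] (hF : Fintype.card F = 4) : ∃ w : F, w ^ 2 + w + 1 = 0 := by
  obtain ⟨e⟩ : Nonempty (F4 ≃+* F) := ⟨FiniteField.ringEquivOfCardEq (F4.card_eq.trans hF.symm)⟩
  refine ⟨e F4.w, ?_⟩
  have h : F4.w ^ 2 + F4.w + 1 = 0 := by rw [pow_two]; decide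
  have := congrArg e h
  rwa [map_add, map_add, map_pow, map_one, map_zero] at this

theorem T_cases [Fintype F] (hF : Fintype.card F = 4) {X : M3 F} (hX : HF X) : T X = 0 ∨ T X = 1 := by
  have h2 := two_zero hF
  have e : ∀ i, (X i i) ^ 2 = X i i := fun i => congrFun (congrFun hX i) i
  have e0 := e 0
  have e1 := e 1
  have e2 := e 2
  have h : (T X) * (T X - 1) = 0 := by
    unfold T
    linear_combination e0 + e1 + e2 + (X 0 0 * X 1 1 + X 0 0 * X 2 2 + X 1 1 * X 2 2) * h2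
  rcases mul_eq_zero.1 h with h | h
  · exact Or.inl h
  · exact Or.inr (sub_eq_zero.1 h)

/-- the diagonal element of order 3 -/
def dl {w : F} (hw : w ^ 2 + w + 1 = 0) : G3 F := ⟨!![1, 0, 0; 0, w, 0; 0, 0, w ^ 2], by
  rw [Matrix.det_fin_three]
  simp
  linear_combination (w - 1) * hw⟩

/-- the cyclic permutation -/
def pl (F : Type) [Field F] : G3 F := ⟨!![0, 1, 0; 0, 0, 1; 1, 0, 0], by
  rw [Matrix.det_fin_three]
  simp⟩

theorem dl_apply {w : F} (hw : w ^ 2 + w + 1 = 0) (X : M3 F) : hact (dl hw) X =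
    !![X 0 0, X 0 1 * w ^ 2, X 0 2 * (w ^ 2) ^ 2; w * X 1 0, w * X 1 1 * w ^ 2, w * X 1 2 * (w ^ 2) ^ 2;
      w ^ 2 * X 2 0, w ^ 2 * X 2 1 * w ^ 2, w ^ 2 * X 2 2 * (w ^ 2) ^ 2] := by
  ext i j
  rw [hact_apply]
  fin_cases i <;> fin_cases j <;> simp [dl]

theorem pl_apply (X : M3 F) : hact (pl F) X =
    !![X 1 1, X 1 2, X 1 0; X 2 1, X 2 2, X 2 0; X 0 1, X 0 2, X 0 0] := by
  ext i j
  rw [hact_apply]
  fin_cases i <;> fin_cases j <;> simp [pl]

theorem dl_three {w : F} (hw : w ^ 2 + w + 1 = 0) : (dl hw) ^ 3 = 1 := by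
  apply Subtype.ext
  show (dl hw).1 ^ 3 = 1
  have h3 : w ^ 3 = 1 := by linear_combination (w - 1) * hw
  ext i j
  fin_cases i <;> fin_cases j <;> simp [dl, pow_succ, Matrix.mul_apply, Fin.sum_univ_three] <;>
    first | linear_combination h3 | linear_combination (w ^ 3 + 1) * h3

theorem pl_three : (pl F) ^ 3 = 1 := by
  apply Subtype.ext
  show (pl F).1 ^ 3 = 1
  ext i j
  fin_cases i <;> fin_cases j <;> simp [pl, pow_succ, Matrix.mul_apply, Fin.sum_univ_three]

theorem dl_pl {w : F} (hw : w ^ 2 + w + 1 = 0) (X : M3 F) :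
    hact (dl hw) (hact (pl F) X) = hact (pl F) (hact (dl hw) X) := by
  have h3 : w ^ 3 = 1 := by linear_combination (w - 1) * hw
  rw [dl_apply, pl_apply, dl_apply, pl_apply]
  ext i j
  fin_cases i <;> fin_cases j <;> simp <;> grind

theorem sum_dl {w : F} (hw : w ^ 2 + w + 1 = 0) (h2 : (2 : F) = 0) (X : M3 F) :
    X + hact (dl hw) X + hact (dl hw) (hact (dl hw) X) = Matrix.diagonal fun i => X i i := by
  have h3 : w ^ 3 = 1 := by linear_combination (w - 1) * hw
  rw [dl_apply, dl_apply]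
  ext i j
  fin_cases i <;> fin_cases j <;> simp <;> grind

theorem sum_pl (D : Fin 3 → F) :
    Matrix.diagonal D + hact (pl F) (Matrix.diagonal D) + hact (pl F) (hact (pl F) (Matrix.diagonal D)) =
      (T (Matrix.diagonal D)) • (1 : M3 F) := by
  rw [pl_apply, pl_apply]
  ext i j
  fin_cases i <;> fin_cases j <;> simp [T] <;> ring

end

/-! ### the trace form -/

section
variable {F : Type} [Field F] [Fintype F]

theorem T_unit (hF : Fintype.card F = 4) {u : G3 F} (h : ∀ Y : M3 F, HF Y → T (hact u Y) = T Y) :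
    hact u (1 : M3 F) = 1 := by
  have h2 := two_zero hF
  have h4 : ∀ x : F, x ^ 4 = x := pow_four hF
  obtain ⟨w, hw⟩ := exists_w hF
  have hT : ∀ Y : M3 F, T (hact u Y) = hact u Y 0 0 + hact u Y 1 1 + hact u Y 2 2 := fun Y => rfl
  have hH : ∀ (a b c x y z : F), a ^ 2 = a → b ^ 2 = b → c ^ 2 = c → HF !![a, x, y; x ^ 2, b, z; y ^ 2, z ^ 2, c] := by
    intro a b c x y z ha hb hc
    have e : ∀ t : F, (t ^ 2) ^ 2 = t := fun t => by rw [← pow_mul]; exact h4 t
    show ct _ = _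
    ext i j
    fin_cases i <;> fin_cases j <;> simp [ct, ha, hb, hc, e]
  have hcube : ∀ s : F, s ≠ 0 → s ^ 3 = 1 := by
    intro s hs
    have := h4 s
    have h5 : s * (s ^ 3 - 1) = 0 := by linear_combination this
    exact sub_eq_zero.1 ((mul_eq_zero.1 h5).resolve_left hs)
  have d0 := h _ (hH 1 0 0 0 0 0 (by norm_num) (by norm_num) (by norm_num))
  have d1 := h _ (hH 0 1 0 0 0 0 (by norm_num) (by norm_num) (by norm_num))
  have d2 := h _ (hH 0 0 1 0 0 0 (by norm_num) (by norm_num) (by norm_num))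
  have e0 : ∀ x : F, _ := fun x => h _ (hH 0 0 0 x 0 0 (by norm_num) (by norm_num) (by norm_num))
  have e1 : ∀ x : F, _ := fun x => h _ (hH 0 0 0 0 x 0 (by norm_num) (by norm_num) (by norm_num))
  have e2 : ∀ x : F, _ := fun x => h _ (hH 0 0 0 0 0 x (by norm_num) (by norm_num) (by norm_num))
  simp only [hT, hact_apply] at d0 d1 d2 e0 e1 e2
  simp [T] at d0 d1 d2 e0 e1 e2
  have key : ∀ s : F, (∀ x : F, x * s ^ 2 + x ^ 2 * s = 0) → s = 0 := by
    intro s hs
    by_contra h0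
    have h3 := hcube s h0
    have h5 := hs (w * s)
    have : (1 : F) = 0 := by
      linear_combination h5 - (w + w ^ 2) * h3 - hw + h2
    exact one_ne_zero this
  have k01 := key (u.1 0 0 ^ 2 * u.1 0 1 + u.1 1 0 ^ 2 * u.1 1 1 + u.1 2 0 ^ 2 * u.1 2 1) (fun x => by
    have := e0 x
    have a1 := h4 (u.1 0 0)
    have a2 := h4 (u.1 1 0)
    have a3 := h4 (u.1 2 0)
    grind)
  have k02 := key (u.1 0 0 ^ 2 * u.1 0 2 + u.1 1 0 ^ 2 * u.1 1 2 + u.1 2 0 ^ 2 * u.1 2 2) (fun x => by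
    have := e1 x
    have a1 := h4 (u.1 0 0)
    have a2 := h4 (u.1 1 0)
    have a3 := h4 (u.1 2 0)
    grind)
  have k12 := key (u.1 0 1 ^ 2 * u.1 0 2 + u.1 1 1 ^ 2 * u.1 1 2 + u.1 2 1 ^ 2 * u.1 2 2) (fun x => by
    have := e2 x
    have a1 := h4 (u.1 0 1)
    have a2 := h4 (u.1 1 1)
    have a3 := h4 (u.1 2 1)
    grind)
  have hu : ct u.1 * u.1 = 1 := by
    ext i j
    rw [Matrix.mul_apply, Fin.sum_univ_three]
    simp only [ct, Matrix.transpose_apply, Matrix.map_apply]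
    have a : ∀ i j, (u.1 i j) ^ 4 = u.1 i j := fun i j => h4 _
    have b00 := a 0 0
    have b01 := a 0 1
    have b02 := a 0 2
    have b10 := a 1 0
    have b11 := a 1 1
    have b12 := a 1 2
    have b20 := a 2 0
    have b21 := a 2 1
    have b22 := a 2 2
    fin_cases i <;> fin_cases j <;> simp <;> grind
  show u.1 * 1 * ct u.1 = 1
  rw [Matrix.mul_one]
  exact mul_eq_one_comm.1 hu

end

/-! ### 280 nondegenerate hermitian forms -/

/-- rational element -/
def bf : Bool → F4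
  | false => .z
  | true => .o

/-- hermitian matrix -/
def h4 (p : (Bool × Bool × Bool) × (F4 × F4 × F4)) : M3 F4 :=
  !![bf p.1.1, p.2.1, p.2.2.1; p.2.1 * p.2.1, bf p.1.2.1, p.2.2.2; p.2.2.1 * p.2.2.1, p.2.2.2 * p.2.2.2, bf p.1.2.2]

/-- its determinant -/
def dt (p : (Bool × Bool × Bool) × (F4 × F4 × F4)) : F4 :=
  bf p.1.1 * bf p.1.2.1 * bf p.1.2.2 + bf p.1.1 * (p.2.2.2 * (p.2.2.2 * p.2.2.2)) +
    (p.2.1 * (p.2.1 * p.2.1) * bf p.1.2.2 + p.2.1 * p.2.2.2 * (p.2.2.1 * p.2.2.1)) +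
    (p.2.2.1 * (p.2.1 * p.2.1) * (p.2.2.2 * p.2.2.2) + p.2.2.1 * bf p.1.2.1 * (p.2.2.1 * p.2.2.1))

theorem card_dt : Fintype.card {p : (Bool × Bool × Bool) × (F4 × F4 × F4) // dt p ≠ 0} = 280 := by decide +kernel

theorem det_h4 (p : (Bool × Bool × Bool) × (F4 × F4 × F4)) : (h4 p).det = dt p := by
  have hn : ∀ a : F4, -a = a := fun a => rfl
  have hs : ∀ a b : F4, a - b = a + b := fun a b => by rw [sub_eq_add_neg, hn]
  rw [Matrix.det_fin_three]
  simp only [h4, dt, Matrix.of_apply, Matrix.cons_val', Matrix.cons_val_zero, Matrix.cons_val_one, Matrix.cons_val,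
    Matrix.cons_val_fin_one, hs]
  ring

theorem HF_h4 (p : (Bool × Bool × Bool) × (F4 × F4 × F4)) : HF (h4 p) := by
  obtain ⟨⟨a, b, c⟩, x, y, z⟩ := p
  have e1 : ∀ a : Bool, (bf a) ^ 2 = bf a := by
    intro a
    rw [pow_two]
    revert a
    decide
  have e2 : ∀ x : F4, (x * x) ^ 2 = x := by
    intro x
    rw [pow_two]
    revert x
    decide
  show ct _ = _
  ext i j
  fin_cases i <;> fin_cases j <;> simp [ct, h4, e1, e2] <;> rw [pow_two]

theorem card_forms {F : Type} [Field F] [Fintype F] (hF : Fintype.card F = 4) :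
    280 ≤ Nat.card {P : M3 F // HF P ∧ P.det ≠ 0} := by
  obtain ⟨e⟩ : Nonempty (F4 ≃+* F) := ⟨FiniteField.ringEquivOfCardEq (F4.card_eq.trans hF.symm)⟩
  have : Finite {P : M3 F // HF P ∧ P.det ≠ 0} := inferInstance
  let f : {p : (Bool × Bool × Bool) × (F4 × F4 × F4) // dt p ≠ 0} → {P : M3 F // HF P ∧ P.det ≠ 0} := fun p =>
    ⟨(h4 p.1).map e, by
      show ct _ = _
      have h := HF_h4 p.1
      ext i j
      have hij : (h4 p.1 j i) ^ 2 = h4 p.1 i j := congrFun (congrFun h i) j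
      simp only [ct, Matrix.transpose_apply, Matrix.map_apply]
      rw [← map_pow, hij], by
      have h1 : ((h4 p.1).map e).det = e ((h4 p.1).det) := (RingHom.map_det (e : F4 →+* F) (h4 p.1)).symm
      rw [h1, det_h4]
      exact fun h0 => p.2 (e.injective (by rw [h0, map_zero]))⟩
  have hf : Function.Injective f := by
    rintro ⟨⟨⟨a, b, c⟩, x, y, z⟩, hp⟩ ⟨⟨⟨a', b', c'⟩, x', y', z'⟩, hp'⟩ heq
    have h := congrArg Subtype.val heq
    have hij : ∀ i j, h4 ((a, b, c), (x, y, z)) i j = h4 ((a', b', c'), (x', y', z')) i j := fun i j =>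
      e.injective (congrFun (congrFun h i) j)
    have hb : ∀ a a' : Bool, bf a = bf a' → a = a' := by decide
    have h0 : a = a' := hb _ _ (hij 0 0)
    have h1 : b = b' := hb _ _ (hij 1 1)
    have h2 : c = c' := hb _ _ (hij 2 2)
    have h3 : x = x' := hij 0 1
    have h4 : y = y' := hij 0 2
    have h5 : z = z' := hij 1 2
    apply Subtype.ext
    simp only
    rw [h0, h1, h2, h3, h4, h5]
  have h := Nat.card_le_card_of_injective f hf
  rwa [Nat.card_eq_fintype_card, card_dt] at h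

/-- there are 280 elements of `SL₃(4)` modulo the unitary group -/
theorem exists_family {F : Type} [Field F] [Fintype F] (hF : Fintype.card F = 4) :
    ∃ (I : Type) (_ : Finite I) (h : I → G3 F), 280 ≤ Nat.card I ∧
      ∀ i j, hact (h i) (1 : M3 F) = hact (h j) (1 : M3 F) → i = j := by
  have key : ∀ P : {P : M3 F // HF P ∧ P.det ≠ 0}, ∃ g : G3 F, hact g (1 : M3 F) = P.1 := by
    intro P
    refine rank_equiv hF (ct_one) P.2.1 ?_
    rw [Matrix.rank_one, Matrix.rank_of_isUnit P.1 ((Matrix.isUnit_iff_isUnit_det P.1).2 (isUnit_iff_ne_zero.2 P.2.2))]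
  choose g hg using key
  refine ⟨{P : M3 F // HF P ∧ P.det ≠ 0}, inferInstance, g, card_forms hF, fun i j h => Subtype.ext ?_⟩
  rw [← hg i, ← hg j, h]

end Cfsg.Agent.H643.L34
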