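import Cfsg.Agent.H643.L34.Comb
import Cfsg.Agent.H643.L34.Herm

/-!
# S5917, toral kill (helper643)

`K` algebraically closed of characteristic 2, `A X` (`X` hermitian) commuting semisimple endomorphisms of `L`, additive in
`X`, permuted by a representation `r` of `SL₃(4)`, `dim L < 280`: every eigenspace of `A 1` for a nonzero eigenvalue has
dimension divisible by 3.
-/

set_option autoImplicit false

namespace Cfsg.Agent.H643.L34

open Module Matrix Cfsg.Agent.H691.L34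
open Cfsg.Agent.H204.L34 (hact_mul hact_one hact_HF hact_apply ct_mul ct_one rank_equiv)

variable {F : Type} [Field F] [Fintype F]

/-- hermitian matrices -/
abbrev HX (F : Type) [Field F] : Type := {X : M3 F // HF X}

section
variable {K L : Type*} [Field K] [AddCommGroup L] [Module K L]

/-- weight spaces -/
def wt (A : M3 F → Module.End K L) (χ : HX F → K) : Submodule K L := ⨅ X : HX F, (A X.1).eigenspace (χ X)

theorem mem_wt {A : M3 F → Module.End K L} {χ : HX F → K} {v : L} :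
    v ∈ wt A χ ↔ ∀ X : HX F, A X.1 v = χ X • v := by
  simp only [wt, Submodule.mem_iInf, Module.End.mem_eigenspace_iff]

theorem mgen_eq {A : M3 F → Module.End K L} (hss : ∀ X, HF X → (A X).IsSemisimple) (X : HX F) (μ : K) :
    (A X.1).maxGenEigenspace μ = (A X.1).eigenspace μ :=
  (hss X.1 X.2).isFinitelySemisimple.maxGenEigenspace_eq_eigenspace μ

theorem indep [FiniteDimensional K L] {A : M3 F → Module.End K L}
    (hcomm : ∀ X Y, HF X → HF Y → Commute (A X) (A Y)) (hss : ∀ X, HF X → (A X).IsSemisimple) :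
    iSupIndep (wt A) := by
  have h1 := Module.End.independent_iInf_maxGenEigenspace_of_forall_mapsTo (fun X : HX F => A X.1)
    (fun i j φ => Module.End.mapsTo_maxGenEigenspace_of_comm (hcomm j.1 i.1 j.2 i.2) φ)
  have h2 : (fun χ : HX F → K => ⨅ i, ((fun X : HX F => A X.1) i).maxGenEigenspace (χ i)) = wt A := by
    funext χ
    exact iInf_congr fun i => mgen_eq hss i (χ i)
  rwa [h2] at h1

theorem top [FiniteDimensional K L] [IsAlgClosed K] {A : M3 F → Module.End K L}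
    (hcomm : ∀ X Y, HF X → HF Y → Commute (A X) (A Y)) (hss : ∀ X, HF X → (A X).IsSemisimple) :
    ⨆ χ, wt A χ = ⊤ := by
  have h1 := Module.End.iSup_iInf_maxGenEigenspace_eq_top_of_iSup_maxGenEigenspace_eq_top_of_commute
    (fun X : HX F => A X.1) (fun i j _ => hcomm i.1 j.1 i.2 j.2)
    (fun i => Module.End.iSup_maxGenEigenspace_eq_top _)
  have h2 : (fun χ : HX F → K => ⨅ i, ((fun X : HX F => A X.1) i).maxGenEigenspace (χ i)) = wt A := by
    funext χ
    exact iInf_congr fun i => mgen_eq hss i (χ i)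
  rwa [h2] at h1

/-- the zero, the identity -/
def X0 : HX F := ⟨0, by
  show ct _ = _
  ext i j
  simp [ct]⟩

def X1 : HX F := ⟨1, ct_one⟩

/-- the dimension of an eigenspace of `A 1` -/
theorem finrank_eig [FiniteDimensional K L] [IsAlgClosed K] {A : M3 F → Module.End K L}
    (hcomm : ∀ X Y, HF X → HF Y → Commute (A X) (A Y)) (hss : ∀ X, HF X → (A X).IsSemisimple) (c : K) :
    ∃ _ : Fintype {χ : HX F → K | wt A χ ≠ ⊥ ∧ χ X1 = c},
      finrank K ((A 1).eigenspace c) = ∑ χ : {χ : HX F → K | wt A χ ≠ ⊥ ∧ χ X1 = c}, finrank K (wt A χ.1) := by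
  have hi := indep hcomm hss
  have ht := top hcomm hss
  have hfin : {χ : HX F → K | wt A χ ≠ ⊥}.Finite := WellFoundedGT.finite_ne_bot_of_iSupIndep hi
  have hfin2 : {χ : HX F → K | wt A χ ≠ ⊥ ∧ χ X1 = c}.Finite := hfin.subset fun χ h => h.1
  have hF2 : Fintype {χ : HX F → K | wt A χ ≠ ⊥ ∧ χ X1 = c} := hfin2.fintype
  refine ⟨hF2, ?_⟩
  rw [← finrank_biSup hi]
  have h3 : (fun d : K => ⨆ χ ∈ {χ : HX F → K | wt A χ ≠ ⊥ ∧ χ X1 = d}, wt A χ) = fun d => (A 1).eigenspace d := by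
    refine ((Module.End.eigenspaces_iSupIndep (A 1)).le_iff_eq_of_iSup_eq_top ?_).1 ?_
    · rw [eq_top_iff, ← ht]
      refine iSup_le fun χ => ?_
      by_cases h0 : wt A χ = ⊥
      · rw [h0]; exact bot_le
      · refine le_trans ?_ (le_iSup _ (χ X1))
        exact le_biSup (wt A) (show χ ∈ {χ' : HX F → K | wt A χ' ≠ ⊥ ∧ χ' X1 = χ X1} from ⟨h0, rfl⟩)
    · intro d
      refine iSup₂_le fun χ hχ => ?_
      intro v hv
      rw [Module.End.mem_eigenspace_iff]
      have := mem_wt.1 hv X1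
      rw [hχ.2] at this
      exact this
  exact congrArg (fun f => finrank K (f c)) h3.symm

/-- transport of weights -/
def mg (h2 : (2 : F) = 0) (h4 : ∀ x : F, x ^ 4 = x) (g : G3 F) (χ : HX F → K) : HX F → K :=
  fun X => χ ⟨hact g X.1, hact_HF h2 h4 X.2 g⟩

theorem mg_mul (h2 : (2 : F) = 0) (h4 : ∀ x : F, x ^ 4 = x) (g h : G3 F) (χ : HX F → K) :
    mg h2 h4 g (mg h2 h4 h χ) = mg h2 h4 (h * g) χ := by
  funext X
  exact congrArg χ (Subtype.ext (hact_mul h2 h g X.1).symm)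

theorem mg_one (h2 : (2 : F) = 0) (h4 : ∀ x : F, x ^ 4 = x) (χ : HX F → K) : mg h2 h4 1 χ = χ := by
  funext X
  exact congrArg χ (Subtype.ext (hact_one X.1))

variable {b : Bool} {A : M3 F → Module.End K L} {r : Representation K (G3 F) L}

theorem maps (h2 : (2 : F) = 0) (h4 : ∀ x : F, x ^ 4 = x)
    (hr : ∀ g X, HF X → ∀ v, r g (A X v) = A (hact (tw b g) X) (r g v)) (g : G3 F) {χ : HX F → K} {v : L}
    (hv : v ∈ wt A χ) : r (tw b g⁻¹) v ∈ wt A (mg h2 h4 g χ) := by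
  rw [mem_wt]
  intro X
  have h := hr (tw b g⁻¹) (hact g X.1) (hact_HF h2 h4 X.2 g) v
  rw [tw_tw, ← hact_mul h2, inv_mul_cancel, hact_one] at h
  rw [← h, mem_wt.1 hv ⟨hact g X.1, hact_HF h2 h4 X.2 g⟩, map_smul]
  rfl

theorem map_wt (h2 : (2 : F) = 0) (h4 : ∀ x : F, x ^ 4 = x)
    (hr : ∀ g X, HF X → ∀ v, r g (A X v) = A (hact (tw b g) X) (r g v)) (g : G3 F) (χ : HX F → K) :
    finrank K (wt A (mg h2 h4 g χ)) = finrank K (wt A χ) := by
  have inv1 : ∀ g : G3 F, ∀ v, r (tw b g) (r (tw b g⁻¹) v) = v := by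
    intro g v
    have : (r (tw b g) * r (tw b g⁻¹)) v = v := by
      rw [← map_mul, ← map_mul, mul_inv_cancel, map_one, map_one]
      rfl
    exact this
  have inv2 : ∀ g : G3 F, ∀ v, r (tw b g⁻¹) (r (tw b g) v) = v := by
    intro g v
    have := inv1 g⁻¹ v
    rwa [inv_inv] at this
  let e : L ≃ₗ[K] L := LinearEquiv.ofLinear (r (tw b g⁻¹)) (r (tw b g))
    (LinearMap.ext fun v => inv2 g v) (LinearMap.ext fun v => inv1 g v)
  have h : wt A (mg h2 h4 g χ) = (wt A χ).map (e : L →ₗ[K] L) := by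
    apply le_antisymm
    · intro v hv
      have h1 := maps h2 h4 hr g⁻¹ hv
      rw [mg_mul, inv_inv, mul_inv_cancel, mg_one] at h1
      exact ⟨_, h1, inv2 g v⟩
    · rintro _ ⟨v, hv, rfl⟩
      exact maps h2 h4 hr g hv
  rw [h]
  exact LinearEquiv.finrank_map_eq e (wt A χ)

/-- weights are additive -/
theorem wt_add (hadd : ∀ X Y, HF X → HF Y → A (X + Y) = A X + A Y) {χ : HX F → K} (h0 : wt A χ ≠ ⊥) (X Y Z : HX F)
    (h : X.1 + Y.1 = Z.1) : χ Z = χ X + χ Y := by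
  obtain ⟨v, hv, hv0⟩ := Submodule.exists_mem_ne_zero_of_ne_bot h0
  have h1 := mem_wt.1 hv
  have h3 := h1 Z
  rw [← h, hadd _ _ X.2 Y.2, LinearMap.add_apply, h1 X, h1 Y, ← add_smul] at h3
  exact (smul_left_injective K hv0 h3).symm

/-- a weight fixed by the two elements of order 3 -/
theorem fixed_form (hF : Fintype.card F = 4) (h2 : (2 : F) = 0) (h4 : ∀ x : F, x ^ 4 = x) (k2 : (2 : K) = 0)
    (hadd : ∀ X Y, HF X → HF Y → A (X + Y) = A X + A Y) {χ : HX F → K} (h0 : wt A χ ≠ ⊥) {w : F}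
    (hw : w ^ 2 + w + 1 = 0) (hd : mg h2 h4 (dl hw) χ = χ) (hp : mg h2 h4 (pl F) χ = χ) (X : HX F) :
    (T X.1 = 0 → χ X = 0) ∧ (T X.1 = 1 → χ X = χ X1) := by
  have hadd' := wt_add (A := A) hadd h0
  have hz : χ X0 = 0 := by
    have := hadd' X0 X0 X0 (add_zero _)
    exact left_eq_add.1 this
  have hs : ∀ X Y : M3 F, HF X → HF Y → HF (X + Y) := by
    intro X Y hX hY
    have e : ∀ i j, (X j i) ^ 2 = X i j := fun i j => congrFun (congrFun hX i) j
    have e' : ∀ i j, (Y j i) ^ 2 = Y i j := fun i j => congrFun (congrFun hY i) j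
    show ct _ = _
    ext i j
    simp only [ct, Matrix.transpose_apply, Matrix.map_apply, Matrix.add_apply]
    rw [← e i j, ← e' i j]
    linear_combination (X j i * Y j i) * h2
  have step : ∀ (g : G3 F) (_ : mg h2 h4 g χ = χ) (X Y : HX F), X.1 + hact g X.1 + hact g (hact g X.1) = Y.1 →
      χ Y = χ X := by
    intro g hg X Y hY
    have hg' : ∀ X : HX F, χ ⟨hact g X.1, hact_HF h2 h4 X.2 g⟩ = χ X := fun X => congrFun hg X
    have e1 := hadd' X ⟨hact g X.1, hact_HF h2 h4 X.2 g⟩ ⟨X.1 + hact g X.1, hs _ _ X.2 (hact_HF h2 h4 X.2 g)⟩ rfl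
    have e2 := hadd' ⟨X.1 + hact g X.1, hs _ _ X.2 (hact_HF h2 h4 X.2 g)⟩
      ⟨hact g (hact g X.1), hact_HF h2 h4 (hact_HF h2 h4 X.2 g) g⟩ Y hY
    have e3 := hg' ⟨hact g X.1, hact_HF h2 h4 X.2 g⟩
    rw [e2, e1, hg' X]
    have e4 : χ ⟨hact g (hact g X.1), hact_HF h2 h4 (hact_HF h2 h4 X.2 g) g⟩ = χ X := by
      rw [← hg' X]; exact e3
    rw [e4]
    linear_combination (χ X) * k2
  have hD : HF (Matrix.diagonal fun i => X.1 i i) := by
    rw [← sum_dl hw h2 X.1]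
    exact hs _ _ (hs _ _ X.2 (hact_HF h2 h4 X.2 _)) (hact_HF h2 h4 (hact_HF h2 h4 X.2 _) _)
  have h5 := step (dl hw) hd X ⟨_, hD⟩ (sum_dl hw h2 X.1)
  have hT : T (Matrix.diagonal fun i => X.1 i i) = T X.1 := by
    simp [T]
  constructor
  · intro h
    have h6 := step (pl F) hp ⟨_, hD⟩ X0 (by
      rw [sum_pl, hT, h, zero_smul]; rfl)
    rw [← h5, ← h6, hz]
  · intro h
    have h6 := step (pl F) hp ⟨_, hD⟩ X1 (by
      rw [sum_pl, hT, h, one_smul]; rfl)
    rw [← h5, ← h6]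

/-- **Toral kill.** -/
theorem kill [FiniteDimensional K L] [IsAlgClosed K] (hF : Fintype.card F = 4) (k2 : (2 : K) = 0)
    (hadd : ∀ X Y, HF X → HF Y → A (X + Y) = A X + A Y) (hcomm : ∀ X Y, HF X → HF Y → Commute (A X) (A Y))
    (hss : ∀ X, HF X → (A X).IsSemisimple)
    (hr : ∀ g X, HF X → ∀ v, r g (A X v) = A (hact (tw b g) X) (r g v)) (hL : finrank K L < 280) {c : K}
    (hc : c ≠ 0) : 3 ∣ finrank K ((A 1).eigenspace c) := by
  classical
  have h2 := two_zero hF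
  have h4 : ∀ x : F, x ^ 4 = x := pow_four hF
  obtain ⟨w, hw⟩ := exists_w hF
  obtain ⟨hfin, heq⟩ := finrank_eig hcomm hss c
  rw [heq]
  have hbot : ∀ (g : G3 F) (χ : HX F → K), wt A χ ≠ ⊥ → wt A (mg h2 h4 g χ) ≠ ⊥ := by
    intro g χ h h0
    apply h
    rw [← Submodule.finrank_eq_zero (R := K), ← map_wt h2 h4 hr g χ, h0]
    exact finrank_bot K L
  have hmv : ∀ g : G3 F, hact g (1 : M3 F) = 1 → ∀ χ : HX F → K, mg h2 h4 g χ X1 = χ X1 := by
    intro g hg χ
    exact congrArg χ (Subtype.ext hg)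
  have hd1 : hact (dl hw) (1 : M3 F) = 1 := by
    have h3 : w ^ 3 = 1 := by linear_combination (w - 1) * hw
    rw [dl_apply]
    ext i j
    fin_cases i <;> fin_cases j <;> simp <;> grind
  have hp1 : hact (pl F) (1 : M3 F) = 1 := by
    rw [pl_apply]
    ext i j
    fin_cases i <;> fin_cases j <;> simp
  let S : Set (HX F → K) := {χ : HX F → K | wt A χ ≠ ⊥ ∧ χ X1 = c}
  let f : S → S := fun χ => ⟨mg h2 h4 (dl hw) χ.1, hbot _ _ χ.2.1, (hmv _ hd1 _).trans χ.2.2⟩
  let t : S → S := fun χ => ⟨mg h2 h4 (pl F) χ.1, hbot _ _ χ.2.1, (hmv _ hp1 _).trans χ.2.2⟩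
  refine three_dvd_sum (f := f) (t := t) ?_ ?_ ?_ ?_ ?_ ?_
  · intro χ
    apply Subtype.ext
    show mg h2 h4 (dl hw) (mg h2 h4 (dl hw) (mg h2 h4 (dl hw) χ.1)) = χ.1
    rw [mg_mul, mg_mul, ← pow_two, ← pow_succ', dl_three, mg_one]
  · intro χ
    apply Subtype.ext
    show mg h2 h4 (pl F) (mg h2 h4 (pl F) (mg h2 h4 (pl F) χ.1)) = χ.1
    rw [mg_mul, mg_mul, ← pow_two, ← pow_succ', pl_three, mg_one]
  · intro χ
    apply Subtype.ext
    funext X
    exact congrArg χ.1 (Subtype.ext (dl_pl hw X.1).symm)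
  · intro χ e1 e2
    have e1' : mg h2 h4 (dl hw) χ.1 = χ.1 := congrArg Subtype.val e1
    have e2' : mg h2 h4 (pl F) χ.1 = χ.1 := congrArg Subtype.val e2
    have hform := fixed_form hF h2 h4 k2 hadd χ.2.1 hw e1' e2'
    have hχ1 : χ.1 X1 = c := χ.2.2
    obtain ⟨I, hI, g, hcard, hg⟩ := exists_family hF
    have hi := indep hcomm hss
    let μ : I → {χ' : HX F → K // wt A χ' ≠ ⊥} := fun i => ⟨mg h2 h4 (g i)⁻¹ χ.1, hbot _ _ χ.2.1⟩
    have hinj : Function.Injective μ := by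
      intro i j hij
      have hij' : mg h2 h4 (g i)⁻¹ χ.1 = mg h2 h4 (g j)⁻¹ χ.1 := congrArg Subtype.val hij
      apply hg
      have h6 : mg h2 h4 ((g j)⁻¹ * g i) χ.1 = χ.1 := by
        rw [← mg_mul, ← hij', mg_mul, inv_mul_cancel, mg_one]
      have h7 : hact ((g j)⁻¹ * g i) (1 : M3 F) = 1 := by
        apply T_unit hF
        intro Y hY
        have h8 := congrFun h6 ⟨Y, hY⟩
        have h9 : χ.1 ⟨hact ((g j)⁻¹ * g i) Y, hact_HF h2 h4 hY _⟩ = χ.1 ⟨Y, hY⟩ := h8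
        have hA := hform ⟨Y, hY⟩
        have hB := hform ⟨hact ((g j)⁻¹ * g i) Y, hact_HF h2 h4 hY _⟩
        rcases T_cases hF hY with k | k <;> rcases T_cases hF (hact_HF h2 h4 hY ((g j)⁻¹ * g i)) with k' | k'
        · rw [k, k']
        · exfalso
          rw [hB.2 k', hA.1 k, hχ1] at h9
          exact hc h9
        · exfalso
          rw [hB.1 k', hA.2 k, hχ1] at h9
          exact hc h9.symm
        · rw [k, k']
      have h8 : hact (g j) (hact ((g j)⁻¹ * g i) (1 : M3 F)) = hact (g i) 1 := by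
        rw [← hact_mul h2, mul_inv_cancel_left]
      rw [h7] at h8
      exact h8.symm
    have hfin' : Finite {χ' : HX F → K // wt A χ' ≠ ⊥} := WellFoundedGT.finite_ne_bot_of_iSupIndep hi
    have := Fintype.ofFinite {χ' : HX F → K // wt A χ' ≠ ⊥}
    have h10 := Nat.card_le_card_of_injective μ hinj
    rw [Nat.card_eq_fintype_card (α := {χ' : HX F → K // wt A χ' ≠ ⊥})] at h10
    have h11 := hi.subtype_ne_bot_le_finrank
    omega
  · intro χ
    exact map_wt h2 h4 hr (dl hw) χ.1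
  · intro χ
    exact map_wt h2 h4 hr (pl F) χ.1

/-- the same for `(A X) ^ (2 ^ m) = A X` -/
theorem ss_of_pow (k2 : (2 : K) = 0) {m : ℕ} (hm : 0 < m) {a : Module.End K L} (h : a ^ 2 ^ m = a) :
    a.IsSemisimple := by
  refine Module.End.isSemisimple_of_squarefree_aeval_eq_zero (p := Polynomial.X ^ 2 ^ m - Polynomial.X) ?_ ?_
  · apply Polynomial.Separable.squarefree
    have hk : ((2 ^ m : ℕ) : K) = 0 := by
      rw [Nat.cast_pow, Nat.cast_ofNat, k2, zero_pow hm.ne']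
    refine ⟨0, -1, ?_⟩
    rw [Polynomial.derivative_sub, Polynomial.derivative_X_pow, hk, Polynomial.derivative_X, map_zero]
    ring
  · rw [map_sub, map_pow, Polynomial.aeval_X, h, sub_self]

theorem kill_pow [FiniteDimensional K L] [IsAlgClosed K] (hF : Fintype.card F = 4) (k2 : (2 : K) = 0)
    (hadd : ∀ X Y, HF X → HF Y → A (X + Y) = A X + A Y) (hcomm : ∀ X Y, HF X → HF Y → Commute (A X) (A Y))
    {m : ℕ} (hm : 0 < m) (hpow : ∀ X, HF X → (A X) ^ 2 ^ m = A X)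
    (hr : ∀ g X, HF X → ∀ v, r g (A X v) = A (hact (tw b g) X) (r g v)) (hL : finrank K L < 280) {c : K}
    (hc : c ≠ 0) : 3 ∣ finrank K ((A 1).eigenspace c) :=
  kill hF k2 hadd hcomm (fun X hX => ss_of_pow k2 hm (hpow X hX)) hr hL hc

end

end Cfsg.Agent.H643.L34
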